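import Groth.Agent.RelAmpConsLib.Proper
import Groth.Agent.NoethApproxLib.Proper
import Groth.Agent.PicRepLib.Lft
import Groth.Agent.S4381

/-!
# Ampleness on a fibre of a proper morphism spreads out to a neighbourhood
-/

set_option autoImplicit false
set_option maxHeartbeats 1000000
set_option linter.style.haveILetI false
set_option backward.isDefEq.respectTransparency false

universe u

open CategoryTheory CategoryTheory.Limits AlgebraicGeometry TopologicalSpace RichLib.LimBC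
open KFlatLib (pb)
open Groth.Agent.RelAmpConsLib

noncomputable section

namespace AmpleFibNhdLib

/-- The part of an approximating system above one of its stages. -/
def tail {X S : Scheme.{u}} {f : X ⟶ S} (P : NoethApproxLib.ApproxSys f) (i : P.Jᵒᵖ) :
    Sys (Over i) (P.D.obj i).left where
  D := Over.forget i ⋙ P.D ⋙ Over.forget S
  t j := (P.D.map j.hom).left
  w a := by
    show (P.D.map a.left).left ≫ (P.D.map _).left = (P.D.map _).left
    rw [← Over.comp_left, ← P.D.map_comp, Over.w a]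
  c := P.cone.whisker (Over.forget i)
  hc := (Functor.Initial.isLimitWhiskerEquiv (Over.forget i) P.cone).symm P.isLimitCone
  affine j := P.affine j.hom
  s := P.proj i
  hs j := P.cone.w j.hom

theorem isAmple_congr {A C : Scheme.{u}} {a b : A ⟶ C} (h : a = b) {L : C.Modules}
    (hA : CohB1.IsAmple (pb a L)) : CohB1.IsAmple (pb b L) := h ▸ hA

/-- The affine case. -/
theorem aux {X S : Scheme.{u}} [IsAffine S] (f : X ⟶ S) [IsProper f] (L : X.Modules)
    (hL : PicF.IsInvertible L) (y : S)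
    (hy : CohB1.IsAmple ((Scheme.Modules.pullback (f.fiberι y)).obj L)) :
    ∃ W : S.Opens, IsAffineOpen W ∧ y ∈ W ∧ Amp f (𝟙 S) L W.ι := by
  obtain ⟨P, -, hP⟩ := NoethApproxLib.exists_proper_system f
  obtain ⟨i₀⟩ : Nonempty P.Jᵒᵖ := ⟨Opposite.op (Classical.arbitrary P.J)⟩
  haveI : CompactSpace (P.D.obj i₀).left := P.compactSpace i₀
  haveI : QuasiSeparatedSpace (P.D.obj i₀).left := P.quasiSeparatedSpace i₀
  obtain ⟨i, Li, hLi, ⟨e⟩⟩ := PicRepLib.exists_invertible_stage (tail P i₀) (M := L) hL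
  let i₁ := i.left
  let u₁ := (P.D.obj i₁).hom
  let B := tail P i₁
  let L₁ : (P.D.obj i₁).left.Modules := Li
  have e₁ : pb (P.proj i₁) L₁ ≅ L := e
  haveI : QuasiCompact u₁ := P.qc i₁
  let C := RichLib.LimBC.pb B (u₁.fiberι y)
  haveI : CompactSpace (u₁.fiber y) := QuasiCompact.compactSpace_of_compactSpace (u₁.fiberToSpecResidueField y)
  haveI : QuasiSeparatedSpace (u₁.fiber y) := by
    haveI := P.qs i₁
    haveI : QuasiSeparated (u₁.fiberToSpecResidueField y) :=
      MorphismProperty.pullback_snd u₁ (S.fromSpecResidueField y) (P.qs i₁)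
    exact quasiSeparatedSpace_of_quasiSeparated (u₁.fiberToSpecResidueField y)
  haveI : ∀ (a b : Over i₁) (h : a ⟶ b), IsAffineHom (C.D.map h) := fun _ _ h => C.affine_map h
  haveI : ∀ a, CompactSpace (C.D.obj a) := C.compactSpace_obj
  haveI : ∀ a, QuasiSeparatedSpace (C.D.obj a) := C.quasiSeparatedSpace_obj
  let o : Over i₁ := Over.mk (𝟙 i₁)
  have hsq : IsPullback (pullback.snd (u₁.fiberι y) B.s)
      (pullback.fst (u₁.fiberι y) B.s ≫ u₁.fiberToSpecResidueField y) f (S.fromSpecResidueField y) := by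
    have h := ((IsPullback.of_hasPullback (u₁.fiberι y) B.s).flip).paste_vert
      (IsPullback.of_hasPullback u₁ (S.fromSpecResidueField y))
    rwa [show B.s ≫ u₁ = f from P.proj_hom i₁] at h
  have hlim : CohB1.IsAmple (pb (C.c.π.app o) (pb (C.t o ≫ u₁.fiberι y) L₁)) := by
    have h1 := (amp_id_iff_of_affine f L hL hsq).2 ((amp_id_fiber_iff f L hL y).1 hy)
    have h2 : CohB1.IsAmple (pb (pullback.snd (u₁.fiberι y) B.s) (pb B.s L₁)) :=
      AmpleDevLib.isAmple_of_iso h1.1 (AmpleDevLib.isInvertible_pb _ (AmpleDevLib.isInvertible_pb _ hLi))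
        ((Scheme.Modules.pullback _).mapIso e₁.symm) h1
    obtain ⟨a⟩ := LimAmpleLib.pb_pb_iso (pullback.snd (u₁.fiberι y) B.s) B.s _ pullback.condition.symm L₁
    obtain ⟨b⟩ := LimAmpleLib.pb_pb_iso (C.c.π.app o) (C.t o ≫ u₁.fiberι y) (C.s ≫ u₁.fiberι y)
      (by rw [← Category.assoc, C.hs o]) L₁
    exact AmpleDevLib.isAmple_of_iso h2.1 (AmpleDevLib.isInvertible_pb _ (AmpleDevLib.isInvertible_pb _ hLi))
      (a ≪≫ b.symm) h2
  obtain ⟨j, φ, hj⟩ := LimAmpleLib.exists_isAmple_stage C.hc (AmpleDevLib.isInvertible_pb _ hLi) hlim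
  let uj := (P.D.obj j.left).hom
  let Lj : (P.D.obj j.left).left.Modules := pb (B.t j) L₁
  have hLj : PicF.IsInvertible Lj := AmpleDevLib.isInvertible_pb _ hLi
  haveI : IsProper uj := (hP j.left).2
  haveI : LocallyOfFinitePresentation uj := P.lfp j.left
  have hsqj : IsPullback (pullback.snd (u₁.fiberι y) (B.t j))
      (pullback.fst (u₁.fiberι y) (B.t j) ≫ u₁.fiberToSpecResidueField y) uj (S.fromSpecResidueField y) := by
    have h := ((IsPullback.of_hasPullback (u₁.fiberι y) (B.t j)).flip).paste_vert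
      (IsPullback.of_hasPullback u₁ (S.fromSpecResidueField y))
    rwa [show B.t j ≫ u₁ = uj from Over.w (P.D.map j.hom)] at h
  have hjy : Amp uj (𝟙 S) Lj (S.fromSpecResidueField y) := by
    refine (amp_id_iff_of_affine uj Lj hLj hsqj).1 ?_
    obtain ⟨a⟩ := LimAmpleLib.pb_pb_iso (pullback.snd (u₁.fiberι y) (B.t j)) (B.t j) _ rfl L₁
    obtain ⟨b⟩ := LimAmpleLib.pb_pb_iso (C.D.map φ) (C.t o ≫ u₁.fiberι y)
      (pullback.snd (u₁.fiberι y) (B.t j) ≫ B.t j)
      (by rw [← Category.assoc, C.w φ]; exact pullback.condition) L₁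
    exact AmpleDevLib.isAmple_of_iso hj.1 (AmpleDevLib.isInvertible_pb _ hLj) (b ≪≫ a.symm) hj
  obtain ⟨W₀, hyW₀, hW₀⟩ := (exists_open_amp uj Lj hLj).2.2 y hjy
  obtain ⟨W, hW, hyW, hWle⟩ := exists_isAffineOpen_mem_and_subset (x := y) (U := W₀) hyW₀
  haveI : IsAffine W.toScheme := hW
  have hWj : Amp uj (𝟙 S) Lj W.ι := amp_comp hLj (S.homOfLE hWle) (S.homOfLE_ι hWle) hW₀
  refine ⟨W, hW, hyW, (amp_id_iff_of_affine f L hL (IsPullback.of_hasPullback f W.ι)).1 ?_⟩
  have h1 := (amp_id_iff_of_affine uj Lj hLj (IsPullback.of_hasPullback uj W.ι)).2 hWj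
  let c : pullback f W.ι ⟶ pullback uj W.ι :=
    pullback.lift (pullback.fst f W.ι ≫ P.proj j.left) (pullback.snd f W.ι)
      (by rw [Category.assoc, P.proj_hom, pullback.condition])
  haveI : IsClosedImmersion (P.proj j.left) := (hP j.left).1
  haveI : IsClosedImmersion c := by
    have hc : IsPullback (pullback.fst f W.ι) c (P.proj j.left) (pullback.fst uj W.ι) :=
      IsPullback.of_bot (by rw [pullback.lift_snd, P.proj_hom]; exact IsPullback.of_hasPullback f W.ι)
        (pullback.lift_fst _ _ _).symm (IsPullback.of_hasPullback uj W.ι)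
    exact MorphismProperty.of_isPullback hc ‹IsClosedImmersion (P.proj j.left)›
  have h2 : CohB1.IsAmple (pb (pullback.fst f W.ι ≫ P.proj j.left) Lj) :=
    LimAmpleLib.isAmple_transport c (pullback.fst uj W.ι) _ (pullback.lift_fst _ _ _) hLj h1
  obtain ⟨a⟩ := LimAmpleLib.pb_pb_iso (pullback.fst f W.ι) (P.proj j.left) _ rfl Lj
  obtain ⟨b⟩ := LimAmpleLib.pb_pb_iso (P.proj j.left) (B.t j) (P.proj i₁) (B.hs j) L₁
  exact AmpleDevLib.isAmple_of_iso h2.1 (AmpleDevLib.isInvertible_pb _ hL)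
    (a.symm ≪≫ (Scheme.Modules.pullback _).mapIso (b ≪≫ e₁)) h2

theorem main {X Y : Scheme.{u}} (f : X ⟶ Y) [IsProper f] (L : X.Modules) (hL : PicF.IsInvertible L)
    (y : Y) (hy : CohB1.IsAmple ((Scheme.Modules.pullback (f.fiberι y)).obj L)) :
    ∃ V : Y.Opens, y ∈ V ∧ RelAmple.IsRelAmple (f ∣_ V) (L.restrict (f ⁻¹ᵁ V).ι) := by
  obtain ⟨U, hU, hyU, -⟩ := exists_isAffineOpen_mem_and_subset (x := y) (U := (⊤ : Y.Opens)) trivial
  haveI : IsAffine U.toScheme := hU
  let f' := pullback.snd f U.ι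
  haveI : IsProper f' := inferInstanceAs (IsProper (pullback.snd f U.ι))
  let L' := pb (pullback.fst f U.ι) L
  have hL' : PicF.IsInvertible L' := AmpleDevLib.isInvertible_pb _ hL
  have trans : ∀ {T : Scheme.{u}} [IsAffine T] (t : T ⟶ U.toScheme),
      Amp f' (𝟙 U.toScheme) L' t ↔ Amp f (𝟙 Y) L (t ≫ U.ι) := by
    intro T _ t
    rw [← amp_id_iff_of_affine f L hL ((IsPullback.of_hasPullback f' t).paste_horiz (IsPullback.of_hasPullback f U.ι)),
      ← amp_id_iff_of_affine f' L' hL' (IsPullback.of_hasPullback f' t)]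
    obtain ⟨a⟩ := LimAmpleLib.pb_pb_iso (pullback.fst f' t) (pullback.fst f U.ι) _ rfl L
    exact ⟨fun h => AmpleDevLib.isAmple_of_iso h.1 (AmpleDevLib.isInvertible_pb _ hL) a h,
      fun h => AmpleDevLib.isAmple_of_iso h.1 (AmpleDevLib.isInvertible_pb _ hL') a.symm h⟩
  have hy' : Amp f' (𝟙 U.toScheme) L' (U.toScheme.fromSpecResidueField ⟨y, hyU⟩) :=
    (trans _).2 ((amp_residueField_congr hL U.ι (⟨y, hyU⟩ : U)).2 ((amp_id_fiber_iff f L hL y).1 hy))
  obtain ⟨W, hW, hyW, hA⟩ := aux f' L' hL' ⟨y, hyU⟩ ((amp_id_fiber_iff f' L' hL' _).2 hy')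
  haveI : IsAffine W.toScheme := hW
  have hV : IsAffineOpen (U.ι ''ᵁ W) := hW.image_of_isOpenImmersion U.ι
  haveI : IsAffine (U.ι ''ᵁ W).toScheme := hV
  refine ⟨U.ι ''ᵁ W, ⟨⟨y, hyU⟩, hyW, rfl⟩, ?_⟩
  have h1 : Amp f (𝟙 Y) L (U.ι ''ᵁ W).ι :=
    amp_comp hL (U.ι.isoImage W).inv (U.ι.isoImage_inv_ι W) ((trans W.ι).1 hA)
  exact (Groth.Agent.S4381.result (f ∣_ (U.ι ''ᵁ W)) _).2 ((amp_id_open_iff f L hL hV).2 h1)

end AmpleFibNhdLib
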